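import Cfsg.Agent.Lib.Comp.Titsx.Base

set_option maxRecDepth 100000
set_option Elab.async false

namespace Cfsg.Lib.Comp.Titsx

universe u

noncomputable def MuH0_1_R : List (List ℕ × ℕ) := [([1],1),
 ([2],1),
 ([3],1),
 ([1,2],1),
 ([1,3],1),
 ([2,3],1),
 ([4],1),
 ([5],1),
 ([1,4],1),
 ([2,4],1),
 ([3,4],1),
 ([1,5],1),
 ([2,5],1),
 ([3,5],1),
 ([4,5],1),
 ([6],3),
 ([4,6,4,7],0),
 ([5,6,5,7],0),
 ([1,2,6,2,7],0),
 ([1,3,5,7,7],0),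
 ([8],3),
 ([2,3,8,8],0),
 ([2,8,2,9],0),
 ([2,4,6,9,6,8],0),
 ([10],3),
 ([2,3,11,2,10],0),
 ([2,5,11,4,10],0),
 ([8,11,11],1),
 ([1,6,8,11,6,10],0),
 ([6,7],0),
 ([8,9],0),
 ([10,11],0)]

noncomputable def MuH0_1_n_6 : Net :=
 (Net.cons 2 (nat_lit 0x12)
 Net.nil)

noncomputable def MuH0_1_n_8 : Net :=
 (Net.cons 4 (nat_lit 0x4)
 (Net.cons 2 (nat_lit 0x20)
 (Net.cons 1 (nat_lit 0x40)
 (Net.cons 2 (nat_lit 0x22)
 (Net.cons 4 (nat_lit 0x4)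
 Net.nil)))))

noncomputable def MuH0_1_n_10 : Net :=
 (Net.cons 4 (nat_lit 0x2)
 (Net.cons 2 (nat_lit 0x22)
 (Net.cons 1 (nat_lit 0x41)
 (Net.cons 2 (nat_lit 0x31)
 (Net.cons 4 (nat_lit 0xc)
 Net.nil)))))

noncomputable def MuH0_1_n : List Net := [Net.nil,
 Net.nil,
 Net.nil,
 Net.nil,
 Net.nil,
 Net.nil,
 MuH0_1_n_6,
 Net.rev MuH0_1_n_6,
 MuH0_1_n_8,
 Net.rev MuH0_1_n_8,
 MuH0_1_n_10,
 Net.rev MuH0_1_n_10]

theorem MuH0_1_n_ok : NetsOK 8 MuH0_1_n := netsOK_of (by decide +kernel)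

theorem MuH0_1_n_rel : Rels (gp MuH0_1_n) MuH0_1_R := rels_of_relsB (k := 3) MuH0_1_n_ok (by norm_num) (by decide +kernel)

noncomputable def MuH0_1_b0h : ℕ := (nat_lit 0x9000001000003000900000300000100070000080000030005000001000009000300000100000900020000010000090001000001000008)

noncomputable def MuH0_1_b0c : List ℕ := [(nat_lit 0x1500000500000b00c50300001400000e00001600000100001101350500000e00000d00000b00000100ae04000007000014000008000016010a0400000700001400000400001600f604000000000000000007)]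

theorem MuH0_1_fin : finB 8 MuH0_1_n [1,2,3,4,5,6,7,8,9,10,11] 8 (runH 8 MuH0_1_n (tbk 3 4 prs3 MuH0_1_n 8) iv MuH0_1_R [] ([1,2,3,4,5,6,7,8,9].map fun x => [x]) 0 [(fun t => look MuH0_1_b0h 64 t, MuH0_1_b0c)]
  (apd [1,5,9,13,17,21,25,29,33,116,120,124,96,100,104,112,116,124,72,88,92,108,116,120,72,112,116,2,120,108,124,96,124,108,112,116,120,84,92,100,72,76,84,100,104,112,116,120,68,76,84,88,92,104,108,112,120,72,76,100]
 [104,112,116,72,76])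
  (defsH 8 MuH0_1_n (ones 112) [10,11,6,8,10] (Nat.shiftLeft 1 0) 0)) = true := by decide +kernel

theorem MuH0_1_idx : Idx.{u} iv (MuH0_1_R ++ []) ([1,2,3,4,5,6,7,8,9].map fun x => [x]) [1,2,3,4,5,6,7,8,9,10,11] 8 :=
  Reach.idx MuH0_1_n_ok (reach_runH MuH0_1_n_ok (tbk_eq tr3 (by norm_num) (by norm_num) (by norm_num) MuH0_1_n_ok) MuH0_1_n_rel (reach_defsH MuH0_1_n_ok _ _ _ _ _ _) _ _) MuH0_1_fin (by norm_num)

end Cfsg.Lib.Comp.Titsx
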