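import Cfsg.Agent.Lib.Comp.Titsx.Base

set_option maxRecDepth 100000
set_option Elab.async false

namespace Cfsg.Lib.Comp.Titsx

universe u

noncomputable def MuH0_3_R : List (List ℕ × ℕ) := [([1],1),
 ([2],1),
 ([3],1),
 ([1,2],1),
 ([1,3],1),
 ([2,3],1),
 ([4],1),
 ([5],1),
 ([1,4],1),
 ([2,4],1),
 ([3,4],1),
 ([1,5],1),
 ([2,5],1),
 ([3,5],1),
 ([4,5],1),
 ([6],3),
 ([4,6,4,7],0),
 ([5,6,5,7],0),
 ([1,2,6,2,7],0),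
 ([1,3,5,7,7],0),
 ([6,7],0)]

noncomputable def MuH0_3_n_6 : Net :=
 (Net.cons 1 (nat_lit 0x1)
 Net.nil)

noncomputable def MuH0_3_n : List Net := [Net.nil,
 Net.nil,
 Net.nil,
 Net.nil,
 Net.nil,
 Net.nil,
 MuH0_3_n_6,
 Net.rev MuH0_3_n_6]

theorem MuH0_3_n_ok : NetsOK 2 MuH0_3_n := netsOK_of (by decide +kernel)

theorem MuH0_3_n_rel : Rels (gp MuH0_3_n) MuH0_3_R := rels_of_relsB (k := 1) MuH0_3_n_ok (by norm_num) (by decide +kernel)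

theorem MuH0_3_fin : finB 2 MuH0_3_n [1,2,3,4,5,6,7] 2 (runH 2 MuH0_3_n (fun x p => ptInv (nth Net.nil MuH0_3_n x) p) iv MuH0_3_R [] ([1,2,3,4,5].map fun x => [x]) 0 []
  [1,5,9,13,17,80,64,68,76,80,72,72,76]
  (defsH 2 MuH0_3_n (ones 28) [6] (Nat.shiftLeft 1 0) 0)) = true := by decide +kernel

theorem MuH0_3_idx : Idx.{u} iv (MuH0_3_R ++ []) ([1,2,3,4,5].map fun x => [x]) [1,2,3,4,5,6,7] 2 :=
  Reach.idx MuH0_3_n_ok (reach_runH MuH0_3_n_ok (fun x p _ => ptInv_gp MuH0_3_n_ok x p) MuH0_3_n_rel (reach_defsH MuH0_3_n_ok _ _ _ _ _ _) _ _) MuH0_3_fin (by norm_num)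

end Cfsg.Lib.Comp.Titsx
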