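import Cfsg.Agent.Lib.Comp.Titsx.Main
import Cfsg.Agent.Lib.MatB.Heis

set_option maxRecDepth 100000
set_option Elab.async false

namespace Cfsg.Lib.Comp.Titsx

open Cfsg.Lib.MatB

def wx : List ℕ := [8, 10, 5, 13, 4, 12, 8, 10, 5, 13, 4, 12]
def wa : List ℕ := [11, 12, 13, 2, 12, 13, 5, 12, 9]
def wb : List ℕ := [1, 6, 13, 5, 12, 9, 13, 12, 11, 5]
def wy : List ℕ := [8, 13]
def wc : List ℕ := [7, 12, 8, 13, 5, 12, 13, 9, 12, 7]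
def wt : List ℕ := [13, 5, 13, 8, 12, 13, 8, 12, 8, 12]
def c3 : List (List ℕ) := [[], [], [3, 11, 4, 12, 13, 12, 6, 8], [2, 8, 13, 12, 13, 8, 13, 4], [2, 10, 12, 10, 13, 12, 7, 5], [1, 5, 13, 8, 10, 12, 8], [9, 13, 7, 12, 13, 7], [8, 13, 12, 9, 13, 10, 1], [5, 7, 13, 7, 12, 11, 9], [13, 7, 10, 12, 10, 2], [5, 12, 10, 12, 9, 13, 9], [1, 9, 12, 10, 8, 13, 5], [12, 13, 12, 11, 13, 5, 2], [11, 7, 12, 13, 5, 2], [1, 13, 12, 5, 13, 6, 3], [5, 7, 11, 13, 7], [3, 7, 13, 5, 12, 13, 1], [10, 10, 12, 13, 9, 10, 7], [6, 13, 7, 12, 13, 8], [2, 11, 12, 11, 6, 13], [1, 11, 13, 12, 8, 13, 6], [5, 12, 11, 13, 12], [2, 8, 6, 13, 12, 11, 6, 2], [4, 13, 8, 12, 9, 12, 13, 4], [2, 5, 13, 7, 12, 10], [1, 11, 7, 13, 4, 12, 13, 1], [9, 5, 13, 12, 8, 4, 1]]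
def c5 : List (List ℕ) := [[], [10, 6, 13, 12, 10, 12, 13, 6], [1, 6, 13, 4, 12, 13, 7, 1], [1, 6, 13, 4, 12, 13, 6, 5], [1, 7, 10, 13, 12, 10, 13, 6], [], [12, 9, 12, 9, 13, 12, 9, 13, 5, 13], [1, 4, 12, 8, 12, 13, 12, 13, 10, 7, 1], [1, 12, 13, 4, 6, 12, 13, 12, 13, 9, 4], [12, 13, 1, 6, 13, 12, 13, 2, 12, 11], [7, 9, 10], [6, 12, 9, 11, 13, 12, 13, 9, 12], [12, 9, 12, 9, 13, 12, 4, 13, 6, 1], [1, 7, 12, 13, 4, 12, 13, 8, 12, 8], [1, 7, 13, 12, 9, 13, 12, 9, 12, 8], [11, 8, 6], [1, 7, 13, 12, 8, 13, 8, 12, 8, 12, 2], [1, 6, 11, 13, 12, 13, 12, 9, 12, 4, 1], [6, 13, 10, 5, 12, 13, 4, 12, 9, 12], [13, 5, 13, 8, 12, 13, 8, 12, 8, 12], [1, 13, 1], [12, 8, 13, 12, 10, 13, 8, 12, 7], [1, 7, 13, 4, 12, 13, 8, 12, 8, 12], [9, 12, 9, 13, 4, 12, 13, 12, 6, 1], [12, 8, 13, 12, 13, 6, 10, 2, 12]]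

theorem he3 : heB 2048 11 nets L 3 wa wb wx = true := by decide +kernel

theorem he5 : heB 2048 11 nets L 5 wy wc [] = true := by decide +kernel

noncomputable def d3 (u : He 3) : List ℕ := nth [] c3 (9 * u.i.val + 3 * u.j.val + u.k.val)
noncomputable def d5 (i j : ZMod 5) : List ℕ := nth [] c5 (5 * i.val + j.val)

theorem cj3 : ∀ u : He 3, u ≠ 1 → weq 2048 11 nets L (apd (d3 u) (hw wa wb wx u)) (apd wx (d3 u)) = true := by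
  decide +kernel

theorem cj5 : ∀ i j : ZMod 5, ¬ (i = 0 ∧ j = 0) →
    weq 2048 11 nets L (apd (d5 i j) (hw wy wc [] (⟨i, j, 0⟩ : He 5))) (apd wy (d5 i j)) = true := by
  decide +kernel

theorem no_two {Ω : Type*} [Finite Ω] [MulAction (cl (gp nets) L) Ω] [FaithfulSMul (cl (gp nets) L) Ω]
    (h : 3 ≤ Nat.card Ω) : ¬ MulAction.IsMultiplyPretransitive (cl (gp nets) L) Ω 2 := by
  have hk : 2048 ≤ 2 ^ 11 := by norm_num
  obtain ⟨φ, hφ⟩ := exists_he nets_ok hk he3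
  obtain ⟨ψ, hψ⟩ := exists_he nets_ok hk he5
  have e : ∀ u : He 5, ψ u = wv nets L (hw wy wc [] (⟨u.i, u.j, 0⟩ : He 5)) := fun u => by
    simp only [hψ, wv, hw, ev_apd, ev_rp, ev_nil, one_pow]
  refine no_two_trans card φ ψ (x := wv nets L wx) (y := wv nets L wy)
    (wv_ne nets_ok (by decide +kernel) (A := Nat.shiftLeft 1 0) (by decide +kernel))
    (wv_ne nets_ok (by decide +kernel) (A := Nat.shiftLeft 1 0) (by decide +kernel))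
    (fun u hu => hφ u ▸ isConj_wv nets_ok hk (cj3 u hu)) (fun u hu => e u ▸ isConj_wv nets_ok hk (cj5 _ _ hu))
    (fun u hu => by rw [e, hu.1, hu.2]; rfl) (t := wv nets L wt)
    (isConj_wv nets_ok hk (c := [5, 9, 12, 9, 13, 2]) (by decide +kernel))
    ((ev_rp _ _ 3).symm.trans (wv_eq nets_ok hk (w := []) (by decide +kernel))) (v := ⟨1, 1, 0⟩) (by decide) ?_ h
  rw [hψ, hψ, mul_inv_eq_iff_eq_mul, ← ev_apd, ← ev_apd]
  exact wv_eq nets_ok hk (by decide +kernel)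

end Cfsg.Lib.Comp.Titsx
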